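import Cfsg.Agent.H196.S8.Core
import Cfsg.Agent.H515.S8.End
import Cfsg.Agent.H529.S8.Frame
import Cfsg.Agent.H256.Sep.FiData
import Cfsg.Agent.H968.Tor.FiFour
import Cfsg.Agent.H511.Ore.Deg
import Cfsg.Agent.H672.SporIM.RankRows
import Cfsg.Agent.H765.DS.HSMcL
import Cfsg.Agent.H843.IMC.Co1B
import Cfsg.Agent.H843.IMC.Co2A
import Cfsg.Agent.H843.IMC.Co3A
import Cfsg.Agent.H603.FD.Spor
import Cfsg.Agent.H678.DG.HeDegA
import Cfsg.Agent.H678.DG.Tits
import Cfsg.Agent.H678.DG.FiPts
import Cfsg.Agent.H289.Eight.RuDeg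
import Cfsg.Agent.H3.DS.Fi22Row
import Cfsg.Agent.H707.RowTits
import Cfsg.Agent.NotCT.Orders
import Cfsg.Agent.H417.RecogMathieu

/-!
# S4908: the row SOC1 of `Fi₂₄'` (helper180, after helper196's row `Fi₂₃`)

The residues of the degrees of `Fi₂₄'` modulo 17, 23 and 29 exclude (also for the doubles of degrees) all prime powers
except 2, the degrees `m - 1` of the alternating groups and a degree of each sporadic group.

* `deg_X` : the degrees of `X ≃ Fi₂₄'` divide the order and satisfy `ok`;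
* `deg_D` : the elements of `D` satisfy `okA`, and `2 ∉ D`;
* `soc1`, `soc1_iso` : the row.
-/

set_option autoImplicit false
set_option maxRecDepth 100000

namespace Cfsg.Agent.H180.S8.FiTF

open Cfsg Subgroup
open Cfsg.Agent.H691.AN (AlmostSimple)
open Cfsg.Agent.H653.Sieve Cfsg.Agent.H651.Two Cfsg.Agent.H511.Ore Cfsg.Agent.H196.S8

universe u v

/-! ### the degrees of the model -/

theorem cardF : Nat.card Spor.Fi24' = 1255205709190661721292800 := R08.FiTwentyFour.card_commutator

instance finF : Finite Spor.Fi24' := H968.Tor.finite24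

instance simF : IsSimpleGroup Spor.Fi24' := R08.FiTwentyFour.isFi24'.1

theorem nonabF : ¬ IsMulCommutative Spor.Fi24' := fun h =>
  not_comm_of_even (X := Spor.Fi24') (by rw [cardF]; norm_num) (by rw [cardF]; norm_num)
    fun a b => h.is_comm.comm a b

def c29 : CD := ⟨29, 1, 14, 2, [(0, 0), (1, 2), (14, -1), (15, 1), (28, -2)], 2, true⟩

def c23 : CD := ⟨23, 1, 11, 2, [(0, 0), (1, 2), (11, -1), (12, 1), (22, -2)], 2, true⟩

def c17 : CD := ⟨17, 1, 16, 1, [(0, 0), (1, 1), (16, -1)], 0, false⟩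

theorem has29 : c29.Has Spor.Fi24' := by
  have : Fact (Nat.Prime 29) := ⟨by norm_num⟩
  obtain ⟨x, hx⟩ := exists_prime_orderOf_dvd_card' (G := Spor.Fi24') 29 (by rw [cardF]; norm_num)
  exact ⟨by norm_num [c29], x, hx, H968.Tor.card_cent29 hx⟩

theorem has23 : c23.Has Spor.Fi24' := by
  have : Fact (Nat.Prime 23) := ⟨by norm_num⟩
  obtain ⟨x, hx⟩ := exists_prime_orderOf_dvd_card' (G := Spor.Fi24') 23 (by rw [cardF]; norm_num)
  exact ⟨by norm_num [c23], x, hx, H968.Tor.card_cent24 (by norm_num) (by norm_num)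
    (fun R hR => (H256.Sep.FiData.data23 hR).1) hx⟩

theorem has17 : c17.Has Spor.Fi24' := by
  have : Fact (Nat.Prime 17) := ⟨by norm_num⟩
  obtain ⟨x, hx⟩ := exists_prime_orderOf_dvd_card' (G := Spor.Fi24') 17 (by rw [cardF]; norm_num)
  exact ⟨by norm_num [c17], x, hx, H968.Tor.card_cent24 (by norm_num) (by norm_num)
    (fun R hR => (H256.Sep.FiData.data17 hR).1) hx⟩

/-- the admissible residues -/
def ok (d : ℕ) : Bool :=
  [0, 1, 14, 15, 28].contains (d % 29) && ([0, 1, 11, 12, 22].contains (d % 23) && [0, 1, 16].contains (d % 17))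

theorem of_any {l : List (ℕ × ℤ)} {m : ℕ} (h : (l.any fun rw => Nat.beq m rw.1) = true) : m ∈ l.map Prod.fst := by
  obtain ⟨x, hx, h1⟩ := List.any_eq_true.1 h
  rw [Nat.eq_of_beq_eq_true h1]
  exact List.mem_map_of_mem hx

theorem deg_fi {d : ℕ} (hd : d ∈ charDegrees Spor.Fi24') : d ∣ 1255205709190661721292800 ∧ ok d = true := by
  obtain ⟨χ, rfl⟩ := hd
  refine ⟨by rw [← cardF]; exact charDegree_dvd χ, ?_⟩
  have h1 := of_any (res_of_has nonabF cardF has29 (by decide +kernel) χ)
  have h2 := of_any (res_of_has nonabF cardF has23 (by decide +kernel) χ)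
  have h3 := of_any (res_of_has nonabF cardF has17 (by decide +kernel) χ)
  rw [ok, Bool.and_eq_true, Bool.and_eq_true]
  exact ⟨List.contains_iff_mem.2 h1, List.contains_iff_mem.2 h2, List.contains_iff_mem.2 h3⟩

theorem deg_X {X : Type v} [Group X] (h : Spor.IsoFi24' X) {d : ℕ} (hd : d ∈ charDegrees X) :
    d ∣ 1255205709190661721292800 ∧ ok d = true := by
  obtain ⟨e⟩ := h
  exact deg_fi (mem_of_equiv e.symm hd)

/-! ### the degrees of the automorphism group -/

/-- the admissible elements of `D` -/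
def okA (d : ℕ) : Bool :=
  (Nat.beq (1255205709190661721292800 % d) 0 && ok d) ||
    (Nat.beq (d % 2) 0 && (Nat.beq (1255205709190661721292800 % (d / 2)) 0 && ok (d / 2)))

theorem okA_one {d : ℕ} (h1 : d ∣ 1255205709190661721292800) (h2 : ok d = true) : okA d = true := by
  rw [okA, h2, Nat.mod_eq_zero_of_dvd h1]
  rfl

theorem okA_two {d : ℕ} (h1 : d ∣ 1255205709190661721292800) (h2 : ok d = true) : okA (2 * d) = true := by
  have e : 2 * d / 2 = d := by omega
  rw [okA, e, h2, Nat.mod_eq_zero_of_dvd h1, Nat.mul_mod_right]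
  simp

theorem dvd_of_okA {d : ℕ} (h : okA d = true) : d ∣ 2 * 1255205709190661721292800 := by
  rw [okA, Bool.or_eq_true, Bool.and_eq_true, Bool.and_eq_true, Bool.and_eq_true] at h
  rcases h with h | h
  · exact Dvd.dvd.mul_left (Nat.dvd_of_mod_eq_zero (Nat.eq_of_beq_eq_true h.1)) 2
  · obtain ⟨k, rfl⟩ := Nat.dvd_of_mod_eq_zero (Nat.eq_of_beq_eq_true h.1)
    have e : 2 * k / 2 = k := by omega
    rw [e] at h
    exact Nat.mul_dvd_mul_left 2 (Nat.dvd_of_mod_eq_zero (Nat.eq_of_beq_eq_true h.2.1))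

/-- a degree between `Inn X` and `Aut X` -/
theorem deg_half {X : Type v} [Group X] [Finite X] [IsSimpleGroup X] (hX : ¬ IsMulCommutative X)
    (ho : (MulAut.conj : X →* MulAut X).range.index ≤ 2) {d : ℕ} (hd : d ∈ charDegrees (MulAut X)) :
    ∃ e ∈ charDegrees X, d = e ∨ d = 2 * e := by
  obtain ⟨e, he, ⟨c, rfl⟩, h2⟩ := H424.DegTools.clifford_down (MulAut.conj : X →* MulAut X).range hd
  have hpos : 0 < e := H424.DegTools.pos_of_mem he
  rw [Nat.mul_div_cancel_left _ hpos] at h2
  have h3 : c ≤ 2 := (Nat.le_of_dvd (Nat.pos_of_ne_zero Subgroup.index_ne_zero_of_finite) h2).trans ho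
  have h4 : c ≠ 0 := by
    rintro rfl
    exact (Nat.pos_of_ne_zero (Subgroup.index_ne_zero_of_finite (H := (MulAut.conj : X →* MulAut X).range))).ne'
      (zero_dvd_iff.1 h2)
  have h5 : c = 1 ∨ c = 2 := by omega
  refine ⟨e, (H529.S8.degrees_range hX) ▸ he, ?_⟩
  rcases h5 with rfl | rfl
  · left; rw [mul_one]
  · right; rw [mul_comm]

theorem simple_of_iso {X : Type v} [Group X] (h : Spor.IsoFi24' X) : IsSimpleGroup X ∧ Finite X ∧
    ¬ IsMulCommutative X := by
  obtain ⟨e⟩ := h
  refine ⟨?_, Finite.of_equiv _ e.symm.toEquiv, fun hc => nonabF ⟨⟨fun a b => ?_⟩⟩⟩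
  · have : Nontrivial X := e.toEquiv.nontrivial
    exact IsSimpleGroup.isSimpleGroup_of_surjective e.symm.toMonoidHom e.symm.surjective
  · apply e.symm.injective
    rw [map_mul, map_mul]
    exact hc.is_comm.comm _ _

theorem deg_D {X : Type v} [Group X] (h : Spor.IsoFi24' X) {D : Set ℕ} (hD : H704.S8.Deg 2 X D) {d : ℕ} (hd : d ∈ D) :
    okA d = true ∧ d ≠ 2 := by
  obtain ⟨h1, h2, h3⟩ := simple_of_iso h
  have ho : (MulAut.conj : X →* MulAut X).range.index ≤ 2 :=
    H489.card_out_sporadic (K := X) (by unfold IsSporadicGroup; tauto)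
  rcases hD with rfl | ⟨-, rfl⟩
  · obtain ⟨h4, h5⟩ := deg_X h hd
    refine ⟨okA_one h4 h5, ?_⟩
    rintro rfl
    exact absurd h5 (by decide)
  · constructor
    · obtain ⟨e, he, h6⟩ := deg_half h3 ho hd
      obtain ⟨h4, h5⟩ := deg_X h he
      rcases h6 with rfl | rfl
      · exact okA_one h4 h5
      · exact okA_two h4 h5
    · rintro rfl
      have hI : IsSimpleGroup (MulAut.conj : X →* MulAut X).range := by
        have : Nontrivial (MulAut.conj : X →* MulAut X).range :=
          (MonoidHom.ofInjective (H529.S8.conj_injective h3)).symm.toEquiv.nontrivial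
        exact IsSimpleGroup.isSimpleGroup_of_surjective
          (MonoidHom.ofInjective (H529.S8.conj_injective h3)).toMonoidHom
          (MonoidHom.ofInjective (H529.S8.conj_injective h3)).surjective
      refine H515.S8.two_notMem (Y := MulAut X) (MulAut.conj : X →* MulAut X).range ?_ ho hd
      intro hc
      apply h3
      refine ⟨⟨fun a b => (MonoidHom.ofInjective (H529.S8.conj_injective h3)).injective ?_⟩⟩
      rw [map_mul, map_mul]
      exact hc.is_comm.comm _ _

/-! ### the numerical checks -/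

/-- the factorization of `2 |Fi24'|` -/
def LF : List (ℕ × ℕ) := [(2, 22), (3, 16), (5, 2), (7, 3), (11, 1), (13, 1), (17, 1), (23, 1), (29, 1)]

theorem pp_chk : ∀ r ∈ [2, 3, 5, 7, 11, 13, 17, 23, 29], ∀ v ∈ List.range 82, 1 ≤ v →
    okA (r ^ v) = true → r ^ v = 2 := by
  decide +kernel

theorem no_pp {r v : ℕ} (hr : r.Prime) (hv : 0 < v) (h1 : okA (r ^ v) = true) (h2 : r ^ v ≠ 2) : False := by
  have h0 := dvd_of_okA h1
  have h3 : r ∈ LF.map Prod.fst := prime_mem hr LF
    (fun x hx => by simp only [LF, List.mem_cons, List.not_mem_nil, or_false] at hx; rcases hx with rfl | rfl | rfl | rfl | rfl | rfl | rfl | rfl | rfl <;> norm_num)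
    (by rw [show facProd LF = 2 * 1255205709190661721292800 by decide +kernel]; exact (dvd_pow_self r hv.ne').trans h0)
  have h4 : v < 82 := by
    by_contra hcon
    have h5 : 2 ^ 82 ≤ r ^ v := (Nat.pow_le_pow_right (by norm_num) (by omega)).trans (Nat.pow_le_pow_left hr.two_le v)
    have h6 := Nat.le_of_dvd (by norm_num) h0
    omega
  exact h2 (pp_chk r h3 v (List.mem_range.2 h4) hv h1)

theorem low_chk : ∀ x ∈ [6, 7, 8, 9, 10, 11, 12, 13, 14, 15, 16, 17, 20, 45, 90, 22, 32, 16, 21, 42, 23, 46, 36, 72, 44,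
    780, 1560, 680, 1360, 276, 552, 429, 858, 78, 156, 1035, 2070, 378, 756, 106743, 213486], okA x = true → False := by
  decide +kernel

/-! ### the row -/

section

variable {A : Type u} [Group A] [Finite A] {S : Subgroup A} (hA : AlmostSimple A S)
  (hD : ∀ d ∈ charDegrees A, okA d = true ∧ d ≠ 2)

include hA hD

theorem pr {p : ℕ} (hp : p.Prime) (hd : p ∣ Nat.card S) : p ∣ 2 * 1255205709190661721292800 := by
  obtain ⟨d, h1, h2⟩ := prime_deg hA hp hd
  exact h2.trans (dvd_of_okA (hD d h1).1)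

theorem two (hout : Nat.card (Out S) ≤ 2) {a : ℕ} (ha : a ∈ charDegrees S)
    (h1 : okA a = true → False) (h2 : okA (2 * a) = true → False) : False := by
  rcases two_deg hA hout ha with h | h
  · exact h1 (hD _ h).1
  · exact h2 (hD _ h).1

theorem lie {r : ℕ} (hr : r.Prime) (h : IsLieTypeChar r S) : False := by
  obtain ⟨v, hv, h1⟩ := lie_pp hA hr h
  exact no_pp hr hv (hD _ h1).1 (hD _ h1).2

theorem alt {m : ℕ} (hm : 5 ≤ m) (e : S ≃* alternatingGroup (Fin m)) : False := by
  rcases Nat.lt_or_ge m 7 with h7 | h7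
  · have : m = 5 ∨ m = 6 := by omega
    rcases this with rfl | rfl
    · exact lie hA hD (by norm_num) (lie_five e)
    · exact lie hA hD (r := 3) (by norm_num) (H679.isLie_six ⟨e⟩)
  · have h18 : m ≤ 18 := by
      by_contra hcon
      have h1 := pr hA hD (p := 19) (by norm_num)
        (by rw [Nat.card_congr e.toEquiv]; exact prime_dvd_alt (by norm_num) (by norm_num) hm (by omega))
      norm_num at h1
    have h1 := hD _ (alt_deg hA h7 e)
    refine low_chk (m - 1) ?_ h1.1
    interval_cases m <;> decide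

theorem tits (h : Lie.IsoTits S) : False := by
  have hout := H489.card_out_tits h
  obtain ⟨e⟩ := h
  obtain ⟨f⟩ := H707.RowTits.equiv
  exact two hA hD hout (mem_of_equiv (e.trans f) H678.DG.Tits.deg_78) (low_chk 78 (by decide)) (low_chk 156 (by decide))

theorem spor (h : IsSporadicGroup S) : Spor.IsoFi24' S := by
  have hout := H489.card_out_sporadic h
  have key : ∀ {a : ℕ}, a ∈ charDegrees S → (okA a = true → False) →
      (okA (2 * a) = true → False) → Spor.IsoFi24' S :=
    fun ha h1 h2 => (two hA hD hout ha h1 h2).elim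
  have kp : ∀ {p N : ℕ}, p.Prime → Nat.card S = N → p ∣ N → ¬ p ∣ 2 * 1255205709190661721292800 → Spor.IsoFi24' S :=
    fun hp h1 h2 h3 => (h3 (pr hA hD hp (by rw [h1]; exact h2))).elim
  rcases h with h | h | h | h | h | h | h | h | h | h | h | h | h | h | h | h | h | h | h | h | h | h | h | h | h | h
  · obtain ⟨h1, h2, -⟩ := H603.FD.Spor.m11 (UGT.End.MEleven.isM11 h)
    exact key h1 (low_chk 10 (by decide)) (low_chk 20 (by decide))
  · obtain ⟨h1, h2, -⟩ := H603.FD.Spor.m12 (H603.FD.Spor.isM12 h)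
    exact key h1 (low_chk 16 (by decide)) (low_chk 32 (by decide))
  · obtain ⟨h1, h2, -⟩ := H603.FD.Spor.m22 (H417.RecogMathieu.isM22 h)
    exact key h1 (low_chk 21 (by decide)) (low_chk 42 (by decide))
  · obtain ⟨h1, h2, -⟩ := H603.FD.Spor.m23 (H417.RecogMathieu.isM23 h)
    exact key h2 (low_chk 45 (by decide)) (low_chk 90 (by decide))
  · obtain ⟨h1, -, h2, -⟩ := H603.FD.Spor.m24 (H417.RecogMathieu.isM24 h)
    exact key h1 (low_chk 1035 (by decide)) (low_chk 2070 (by decide))
  · exact kp (p := 19) (by norm_num) (NotCT.Orders.j1 h) (by norm_num) (by norm_num)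
  · exact key (H672.SporIM.j2 h).2 (low_chk 36 (by decide)) (low_chk 72 (by decide))
  · exact kp (p := 19) (by norm_num) (NotCT.Orders.j3 h) (by norm_num) (by norm_num)
  · exact kp (p := 43) (by norm_num) (NotCT.Orders.j4 h) (by norm_num) (by norm_num)
  · obtain ⟨e⟩ := h
    exact key (mem_of_equiv e H843.IMC.Co1B.hasDeg_276) (low_chk 276 (by decide)) (low_chk 552 (by decide))
  · obtain ⟨e⟩ := h
    exact key (mem_of_equiv e H843.IMC.Co2A.hasDeg_23) (low_chk 23 (by decide)) (low_chk 46 (by decide))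
  · obtain ⟨e⟩ := h
    exact key (mem_of_equiv e H843.IMC.Co3A.hasDeg_23) (low_chk 23 (by decide)) (low_chk 46 (by decide))
  · exact key (mem_of_irr (H765.DS.HSMcL.mcl_22 h)) (low_chk 22 (by decide)) (low_chk 44 (by decide))
  · exact key (mem_of_irr (H765.DS.HSMcL.hs_22 h)) (low_chk 22 (by decide)) (low_chk 44 (by decide))
  · exact key (H672.SporIM.suz h).2 (low_chk 780 (by decide)) (low_chk 1560 (by decide))
  · obtain ⟨e⟩ := h
    exact key (mem_of_equiv e H678.DG.HeDegA.deg_680) (low_chk 680 (by decide)) (low_chk 1360 (by decide))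
  · obtain ⟨e⟩ := h
    exact key (mem_of_equiv e H289.Eight.RuDeg.deg_378) (low_chk 378 (by decide)) (low_chk 756 (by decide))
  · exact kp (p := 31) (by norm_num) (NotCT.Orders.on h) (by norm_num) (by norm_num)
  · exact kp (p := 67) (by norm_num) (NotCT.Orders.ly h) (by norm_num) (by norm_num)
  · exact key (mem_of_irr (H3.DS.Fi22.exists_deg h).1) (low_chk 429 (by decide)) (low_chk 858 (by decide))
  · obtain ⟨χ, hχ⟩ := H678.DG.FiPts.im_fi23 h
    exact key ⟨χ, hχ⟩ (low_chk 106743 (by decide)) (low_chk 213486 (by decide))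
  · exact h
  · exact kp (p := 19) (by norm_num) (NotCT.Orders.hn h) (by norm_num) (by norm_num)
  · exact kp (p := 31) (by norm_num) (NotCT.Orders.th h) (by norm_num) (by norm_num)
  · exact kp (p := 47) (by norm_num) (NotCT.Orders.b h) (by norm_num) (by norm_num)
  · exact kp (p := 71) (by norm_num) (NotCT.Orders.m h) (by norm_num) (by norm_num)

theorem main : Spor.IsoFi24' S := by
  have := hA.simple
  rcases exists_split S hA.nonab with ⟨l, hl, ⟨e⟩⟩ | ⟨r, hr, h⟩ | h | h
  · exact (alt hA hD hl e).elim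
  · exact (lie hA hD hr h).elim
  · exact (tits hA hD h).elim
  · exact spor hA hD h

end

/-- **SOC1 for `Fi₂₄'`**, model version -/
theorem soc1_iso {X : Type v} [Group X] (hX : Spor.IsoFi24' X) {D : Set ℕ} (hD : H704.S8.Deg 2 X D) :
    H704.S8.Soc1.{u} D X := by
  intro A _ _ S hA h
  obtain ⟨e⟩ := main hA fun d hd => deg_D hX hD (h hd)
  obtain ⟨f⟩ := hX
  exact ⟨e.trans f.symm⟩

theorem isoFi24 {X : Type u} [Group X] [Finite X] (h : IsFi24' X) : Spor.IsoFi24' X := by
  have := h.1
  exact real_of_order (x := (.fi24, 1255205709190661721292800,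
      [(2,21),(3,16),(5,2),(7,3),(11,1),(13,1),(17,1),(23,1),(29,1)]))
    (by simp [H403.sporFac]) h.2 (by norm_num) (by norm_num)

/-- **SOC1 for `Fi₂₄'`** -/
theorem soc1 {X : Type v} [Group X] [Finite X] (hX : Cfsg.IsFi24' X) {D : Set ℕ} (hD : H704.S8.Deg 2 X D) :
    H704.S8.Soc1.{u} D X := soc1_iso (isoFi24 hX) hD

end Cfsg.Agent.H180.S8.FiTF
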